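import Mathlib
import Groth.Prelude.Def_W4c3irrattreebunCvg

/-!
# Covering gonality and the field of constants
-/

universe u

open W4c3irrattreebun

namespace Groth.Agent.IrratBun

variable {k K : Type u} [Field k] [Field K] [Algebra k K]

/-- A diagram over the field of constants is a diagram over the base field. -/
noncomputable def restrictDiag {e : ℕ} (D : CovDiag.{u} (algebraicClosure k K) K e) :
    CovDiag.{u} k K e :=
  letI : Algebra k D.KC := ((algebraMap K D.KC).comp (algebraMap k K)).toAlgebra
  letI : Algebra k D.KB :=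
    ((algebraMap (algebraicClosure k K) D.KB).comp (algebraMap k (algebraicClosure k K))).toAlgebra
  haveI : IsScalarTower k K D.KC := IsScalarTower.of_algebraMap_eq fun _ => rfl
  haveI : IsScalarTower k D.KB D.KC := IsScalarTower.of_algebraMap_eq fun x => by
    change algebraMap K D.KC (algebraMap k K x) = algebraMap D.KB D.KC
      (algebraMap (algebraicClosure k K) D.KB (algebraMap k (algebraicClosure k K) x))
    letI := D.algkC
    have h1 := (@IsScalarTower.algebraMap_apply (algebraicClosure k K) D.KB D.KC _ _ _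
      D.algkB D.algBC D.algkC D.towerB (algebraMap k (algebraicClosure k K) x))
    have h2 := (@IsScalarTower.algebraMap_apply (algebraicClosure k K) K D.KC _ _ _
      _ D.algKC D.algkC D.towerK (algebraMap k (algebraicClosure k K) x))
    exact h2.symm.trans h1
  { KC := D.KC
    KB := D.KB
    t := D.t
    transc := D.transc
    finrank_eq := D.finrank_eq }

set_option synthInstance.maxHeartbeats 400000 in
/-- Adjoining the constants to the base of a diagram does not increase the degree. -/
theorem exists_diag {e : ℕ} (D : CovDiag.{u} k K e) :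
    ∃ e' ≤ e, ∃ D' : CovDiag.{u} (algebraicClosure k K) K e',
      Algebra.IsSeparable K D.KC → Algebra.IsSeparable K D'.KC := by
  classical
  let B : IntermediateField D.KB D.KC :=
    IntermediateField.adjoin D.KB (Set.range (algebraMap (algebraicClosure k K) D.KC))
  haveI hBalg : Algebra.IsAlgebraic D.KB B := by
    refine IntermediateField.isAlgebraic_adjoin fun x hx => ?_
    obtain ⟨c, rfl⟩ := hx
    have h1 : IsAlgebraic k (c : K) := (mem_algebraicClosure_iff (x := (c : K))).mp c.2
    have h2 : IsAlgebraic k (algebraMap K D.KC (c : K)) := h1.algebraMap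
    exact (h2.tower_top (A := D.KC) D.KB).isIntegral
  let φ : (algebraicClosure k K) →+* B :=
    (algebraMap (algebraicClosure k K) D.KC).codRestrict B.toSubfield fun x =>
      IntermediateField.subset_adjoin _ _ ⟨x, rfl⟩
  letI : Algebra (algebraicClosure k K) B := φ.toAlgebra
  haveI : IsScalarTower (algebraicClosure k K) B D.KC := IsScalarTower.of_algebraMap_eq fun _ => rfl
  have htr : Transcendental B D.t := fun hal => D.transc (IsAlgebraic.restrictScalars D.KB hal)
  let F := IntermediateField.adjoin D.KB ({D.t} : Set D.KC)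
  let E := IntermediateField.adjoin B ({D.t} : Set D.KC)
  have hle : F ≤ E.restrictScalars D.KB :=
    IntermediateField.adjoin_le_iff.mpr (IntermediateField.subset_adjoin B _)
  let ι : F →+* E :=
    { toFun := fun x => ⟨(x : D.KC), hle x.2⟩
      map_one' := rfl
      map_mul' := fun _ _ => rfl
      map_zero' := rfl
      map_add' := fun _ _ => rfl }
  letI : Algebra F E := ι.toAlgebra
  haveI : IsScalarTower F E D.KC := IsScalarTower.of_algebraMap_eq fun _ => rfl
  haveI : Module.Finite E D.KC := Module.Finite.of_restrictScalars_finite F E D.KC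
  refine ⟨Module.finrank E D.KC, ?_,
    { KC := D.KC, KB := B, t := D.t, transc := htr, finrank_eq := rfl }, id⟩
  refine le_of_le_of_eq ?_ D.finrank_eq
  haveI : Module.Finite F E := Module.Finite.left F E D.KC
  rw [← Module.finrank_mul_finrank F E D.KC]
  exact Nat.le_mul_of_pos_left _ Module.finrank_pos

theorem cvg_eq : cvg k K = cvg (algebraicClosure k K) K := by
  unfold cvg
  by_cases hne : {e : ℕ | Nonempty (CovDiag.{u} (algebraicClosure k K) K e)}.Nonempty
  · refine le_antisymm (Nat.sInf_le ⟨restrictDiag (Nat.sInf_mem hne).some⟩) ?_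
    have hk : {e : ℕ | Nonempty (CovDiag.{u} k K e)}.Nonempty :=
      ⟨_, ⟨restrictDiag (Nat.sInf_mem hne).some⟩⟩
    obtain ⟨e', hle, D', -⟩ := exists_diag (Nat.sInf_mem hk).some
    exact le_trans (Nat.sInf_le ⟨D'⟩) hle
  · have hk : ¬ {e : ℕ | Nonempty (CovDiag.{u} k K e)}.Nonempty := fun ⟨e, ⟨D⟩⟩ => by
      obtain ⟨e', -, D', -⟩ := exists_diag D
      exact hne ⟨e', ⟨D'⟩⟩
    rw [Set.not_nonempty_iff_eq_empty.mp hne, Set.not_nonempty_iff_eq_empty.mp hk]

theorem scvg_eq : scvg k K = scvg (algebraicClosure k K) K := by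
  unfold scvg
  by_cases hne : {e : ℕ | ∃ D : CovDiag.{u} (algebraicClosure k K) K e,
      Algebra.IsSeparable K D.KC}.Nonempty
  · obtain ⟨D, hD⟩ := Nat.sInf_mem hne
    have hmem : sInf {e : ℕ | ∃ D : CovDiag.{u} (algebraicClosure k K) K e,
        Algebra.IsSeparable K D.KC} ∈ {e : ℕ | ∃ D : CovDiag.{u} k K e,
          Algebra.IsSeparable K D.KC} := ⟨restrictDiag D, hD⟩
    refine le_antisymm (Nat.sInf_le hmem) ?_
    obtain ⟨D₀, hD₀⟩ := Nat.sInf_mem ⟨_, hmem⟩
    obtain ⟨e', hle, D', hD'⟩ := exists_diag D₀
    exact le_trans (Nat.sInf_le ⟨D', hD' hD₀⟩) hle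
  · have hk : ¬ {e : ℕ | ∃ D : CovDiag.{u} k K e, Algebra.IsSeparable K D.KC}.Nonempty :=
      fun ⟨e, D, hD⟩ => by
        obtain ⟨e', -, D', hD'⟩ := exists_diag D
        exact hne ⟨e', D', hD' hD⟩
    rw [Set.not_nonempty_iff_eq_empty.mp hne, Set.not_nonempty_iff_eq_empty.mp hk]

end Groth.Agent.IrratBun
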